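import Groth.Agent.H4DR.DComplete.Adic.Module
import Mathlib.Algebra.Homology.ShortComplex.PreservesHomology
import Mathlib.RingTheory.Flat.CategoryTheory

/-!
# Derived completion of complexes with finite cohomology over a Noetherian ring
-/

set_option autoImplicit false
set_option linter.style.haveILetI false

universe u

open CategoryTheory CategoryTheory.Limits MonoidalCategory Pretriangulated
open Groth.Agent.H4DR.PCoh
open scoped TensorProduct

attribute [local instance] HasDerivedCategory.standard

namespace Groth.Agent.H4DR.DComplete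

variable {A : Type u} [CommRing A]

/-- `B ⊗ -`. -/
noncomputable abbrev tL (B : ModuleCat.{u} A) : ModuleCat.{u} A ⥤ ModuleCat.{u} A := tensorLeft B

instance preservesFiniteLimits_tL (B : ModuleCat.{u} A) [Module.Flat A B] : PreservesFiniteLimits (tL B) :=
  inferInstance

/-- `H(B ⊗ P) = B ⊗ H(P)`. -/
noncomputable def hb (B : ModuleCat.{u} A) [Module.Flat A B] (P : DRing.Cx A) (n : ℤ) :
    (((tL B).mapHomologicalComplex (ComplexShape.up ℤ)).obj P).homology n ≅ (tL B).obj (P.homology n) :=
  (P.sc n).mapHomologyIso (tL B)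

/-- The change of the coefficient module. -/
noncomputable abbrev changeB {B B' : ModuleCat.{u} A} (g : B ⟶ B') (P : DRing.Cx A) :
    ((tL B).mapHomologicalComplex (ComplexShape.up ℤ)).obj P ⟶
      ((tL B').mapHomologicalComplex (ComplexShape.up ℤ)).obj P :=
  (NatTrans.mapHomologicalComplex ((curriedTensor (ModuleCat.{u} A)).map g) (ComplexShape.up ℤ)).app P

lemma hb_naturality {B B' : ModuleCat.{u} A} [Module.Flat A B] [Module.Flat A B'] (g : B ⟶ B')
    (P : DRing.Cx A) (n : ℤ) :
    HomologicalComplex.homologyMap (changeB g P) n ≫ (hb B' P n).hom =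
      (hb B P n).hom ≫ (g ▷ P.homology n) := by
  have h := NatTrans.app_homology (((curriedTensor (ModuleCat.{u} A)).map g) : tL B ⟶ tL B') (P.sc n)
  exact ((Iso.eq_inv_comp _).1 h).symm

lemma mapHomologyIso_id (S : ShortComplex (ModuleCat.{u} A)) :
    (S.mapHomologyIso (𝟭 (ModuleCat.{u} A))).hom = 𝟙 _ := by
  let h' : S.LeftHomologyData := S.homologyData.left.map (𝟭 (ModuleCat.{u} A))
  let γ : ShortComplex.LeftHomologyMapData (𝟙 S) S.homologyData.left h' :=
    { φK := 𝟙 _
      φH := 𝟙 _
      commi := (Category.id_comp _).trans (Category.comp_id _).symm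
      commf' :=
        (Category.comp_id _).trans (((cancel_mono S.homologyData.left.i).1
          (S.homologyData.left.f'_i.trans h'.f'_i.symm)).trans (Category.id_comp _).symm)
      commπ := (Category.comp_id _).trans (Category.id_comp _).symm }
  show h'.homologyIso.hom = _
  show ShortComplex.leftHomologyMap' (𝟙 S) S.homologyData.left S.leftHomologyData ≫
    ShortComplex.leftHomologyMap' (𝟙 S) S.leftHomologyData h' = _
  rw [← ShortComplex.leftHomologyMap'_comp, Category.id_comp, γ.leftHomologyMap'_eq]
  rfl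

/-- The unit `M ⟶ B ⊗ M` of an algebra. -/
noncomputable def unitB (B : Type u) [CommRing B] [Algebra A B] : 𝟭 (ModuleCat.{u} A) ⟶ tL (ModuleCat.of A B) where
  app M := ModuleCat.ofHom (TensorProduct.mk A B M 1)
  naturality _ _ _ := ModuleCat.hom_ext (LinearMap.ext fun _ => rfl)

/-- The unit on complexes. -/
noncomputable def unitCxB (B : Type u) [CommRing B] [Algebra A B] (P : DRing.Cx A) :
    P ⟶ ((tL (ModuleCat.of A B)).mapHomologicalComplex (ComplexShape.up ℤ)).obj P :=
  (Functor.mapHomologicalComplexIdIso (ModuleCat.{u} A) (ComplexShape.up ℤ)).inv.app P ≫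
    (NatTrans.mapHomologicalComplex (unitB B) (ComplexShape.up ℤ)).app P

lemma hb_unit (B : Type u) [CommRing B] [Algebra A B] [Module.Flat A B] (P : DRing.Cx A) (n : ℤ) :
    HomologicalComplex.homologyMap (unitCxB B P) n ≫ (hb (ModuleCat.of A B) P n).hom =
      (unitB B).app (P.homology n) := by
  have h := NatTrans.app_homology (unitB (A := A) B) (P.sc n)
  refine Eq.trans ?_ ((((Iso.eq_inv_comp _).1 h).symm).trans ((congrArg (· ≫ _) (mapHomologyIso_id (P.sc n))).trans (Category.id_comp _)))
  rfl

/-- `Â_J ⊗ M = M^`. -/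
noncomputable def ofT [IsNoetherianRing A] (J : Ideal A) (M : ModuleCat.{u} A) [Module.Finite A M] :
    (tL (ModuleCat.of A (AdicCompletion J A))).obj M ≃ₗ[A] AdicCompletion J M :=
  (LinearEquiv.ofBijective (AdicCompletion.ofTensorProduct J M)
    (AdicCompletion.ofTensorProduct_bijective_of_finite_of_isNoetherian J M)).restrictScalars A

lemma ofT_comp [IsNoetherianRing A] {J J' : Ideal A} (h : J ≤ J') (M : ModuleCat.{u} A) [Module.Finite A M]
    (z : (tL (ModuleCat.of A (AdicCompletion J A))).obj M) :
    ofT J' M ((ModuleCat.ofHom (comp (X := A) h) ▷ M).hom z) = comp h (ofT J M z) := by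
  induction z using TensorProduct.induction_on with
  | zero => simp
  | add a b ha hb => simp only [map_add, ha, hb]
  | tmul r x =>
    show AdicCompletion.ofTensorProduct J' M (comp h r ⊗ₜ x) = comp h (AdicCompletion.ofTensorProduct J M (r ⊗ₜ x))
    rw [AdicCompletion.ofTensorProduct_tmul, AdicCompletion.ofTensorProduct_tmul]
    refine AdicCompletion.ext fun k => ?_
    obtain ⟨a, rfl⟩ := AdicCompletion.mk_surjective J A r
    rfl

lemma ofT_unit [IsNoetherianRing A] (J : Ideal A) (M : ModuleCat.{u} A) [Module.Finite A M] (x : M) :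
    ofT J M (((unitB (A := A) (AdicCompletion J A)).app M).hom x) = AdicCompletion.of J M x :=
  (AdicCompletion.ofTensorProduct_tmul J M (1 : AdicCompletion J A) x).trans (one_smul _ _)

/-- `Â_J ⊗ P`. -/
noncomputable abbrev baseC (J : Ideal A) (P : DRing.Cx A) : DRing.Cx A :=
  ((tL (ModuleCat.of A (AdicCompletion J A))).mapHomologicalComplex (ComplexShape.up ℤ)).obj P

/-- Cohomology of `Q P`. -/
noncomputable def hQ (P : DRing.Cx A) (n : ℤ) : Dual.HD A (DRing.toD P) n ≃ₗ[A] P.homology n :=
  ((DerivedCategory.homologyFunctorFactors (ModuleCat.{u} A) n).app P).toLinearEquiv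

lemma hQ_naturality {P P' : DRing.Cx A} (φ : P ⟶ P') (n : ℤ) (x : Dual.HD A (DRing.toD P) n) :
    hQ P' n (hm n (DerivedCategory.Q.map φ) x) = (HomologicalComplex.homologyMap φ n).hom (hQ P n x) :=
  congrArg (fun t => t.hom x) ((DerivedCategory.homologyFunctorFactors (ModuleCat.{u} A) n).hom.naturality φ)

variable [IsNoetherianRing A] (P : DRing.Cx A) [hP : ∀ n, Module.Finite A (P.homology n)]

/-- `H(Â_J ⊗ P) = H(P)^`. -/
noncomputable def hC (J : Ideal A) (n : ℤ) :
    Dual.HD A (DRing.toD (baseC J P)) n ≃ₗ[A] AdicCompletion J (P.homology n) :=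
  haveI : Module.Flat A (ModuleCat.of A (AdicCompletion J A)) := AdicCompletion.flat_of_isNoetherian J
  (hQ (baseC J P) n).trans ((hb (ModuleCat.of A (AdicCompletion J A)) P n).toLinearEquiv.trans (ofT J _))

lemma hC_comp {J J' : Ideal A} (h : J ≤ J') (n : ℤ) (x : Dual.HD A (DRing.toD (baseC J P)) n) :
    hC P J' n (hm n (DerivedCategory.Q.map (changeB (ModuleCat.ofHom (comp (X := A) h)) P)) x) =
      comp h (hC P J n x) := by
  haveI : Module.Flat A (ModuleCat.of A (AdicCompletion J A)) := AdicCompletion.flat_of_isNoetherian J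
  haveI : Module.Flat A (ModuleCat.of A (AdicCompletion J' A)) := AdicCompletion.flat_of_isNoetherian J'
  show ofT J' _ ((hb _ P n).hom.hom (hQ (baseC J' P) n _)) = comp h (ofT J _ ((hb _ P n).hom.hom (hQ (baseC J P) n x)))
  rw [hQ_naturality, ← ofT_comp]
  exact congrArg (ofT J' _) (congrArg (fun t => t.hom (hQ (baseC J P) n x))
    (hb_naturality (ModuleCat.ofHom (comp (X := A) h)) P n))

lemma hC_unit (J : Ideal A) (n : ℤ) (x : Dual.HD A (DRing.toD P) n) :
    hC P J n (hm n (DerivedCategory.Q.map (unitCxB (AdicCompletion J A) P)) x) =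
      AdicCompletion.of J (P.homology n) (hQ P n x) := by
  haveI : Module.Flat A (ModuleCat.of A (AdicCompletion J A)) := AdicCompletion.flat_of_isNoetherian J
  haveI : Module.Flat A (AdicCompletion J A) := AdicCompletion.flat_of_isNoetherian J
  show ofT J _ ((hb _ P n).hom.hom (hQ (baseC J P) n _)) = _
  rw [hQ_naturality, ← ofT_unit]
  exact congrArg (ofT J _) (congrArg (fun t => t.hom (hQ P n x)) (hb_unit (AdicCompletion J A) P n))

omit [IsNoetherianRing A] hP in
lemma unit_comp {J J' : Ideal A} (h : J ≤ J') :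
    unitCxB (AdicCompletion J A) P ≫ changeB (ModuleCat.ofHom (comp (X := A) h)) P = unitCxB (AdicCompletion J' A) P := by
  ext i : 1
  refine ModuleCat.hom_ext (LinearMap.ext fun x => ?_)
  show comp h (1 : AdicCompletion J A) ⊗ₜ[A] x = (1 : AdicCompletion J' A) ⊗ₜ[A] x
  congr 1

theorem bijective_precomp_unitB (s : Finset A) : ∀ (E : Dual.D A), DRing.IsDerivedComplete (Ideal.span (s : Set A)) E →
    Function.Bijective (fun ψ : DRing.toD (baseC (Ideal.span (s : Set A)) P) ⟶ E =>
      DerivedCategory.Q.map (unitCxB (AdicCompletion (Ideal.span (s : Set A)) A) P) ≫ ψ) := by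
  classical
  have hAR : ∀ n, ARTor (A := A) (P.homology n) := fun n =>
    ARTor.of_equiv (TensorProduct.rid A (P.homology n)) (arTor_tensor (P.homology n) A)
  induction s using Finset.induction_on with
  | empty =>
    intro E _
    rw [show Ideal.span ((∅ : Finset A) : Set A) = ⊥ by simp]
    haveI : IsIso (DerivedCategory.Q.map (unitCxB (AdicCompletion (⊥ : Ideal A) A) P)) := by
      rw [DerivedCategory.isIso_iff]
      intro n
      rw [ConcreteCategory.isIso_iff_bijective]
      refine (Function.Bijective.of_comp_iff' (hC P ⊥ n).bijective _).1 ?_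
      refine Eq.mp (congrArg Function.Bijective (funext fun x => ?_))
        ((AdicCompletion.of_bijective (⊥ : Ideal A) (P.homology n)).comp (hQ P n).bijective)
      exact (hC_unit P ⊥ n x).symm
    exact (asIso (DerivedCategory.Q.map (unitCxB (AdicCompletion (⊥ : Ideal A) A) P))).homFromEquiv.symm.bijective
  | @insert f s hf ih =>
    intro E hE
    have hspan : Ideal.span ((insert f s : Finset A) : Set A) = Ideal.span (s : Set A) ⊔ Ideal.span {f} := by
      rw [Finset.coe_insert, Ideal.span_insert, sup_comm]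
    have hE' : DRing.IsDerivedComplete (Ideal.span (s : Set A)) E := fun g hg =>
      hE g (Ideal.span_mono (Finset.coe_subset.2 (Finset.subset_insert f s)) hg)
    have hf' : f ∈ Ideal.span ((insert f s : Finset A) : Set A) :=
      Ideal.subset_span (Finset.mem_coe.2 (Finset.mem_insert_self f s))
    rw [hspan]
    have hle : Ideal.span (s : Set A) ≤ Ideal.span (s : Set A) ⊔ Ideal.span {f} := le_sup_left
    let φ := DerivedCategory.Q.map (changeB (ModuleCat.ofHom (comp (X := A) hle)) P)
    have h1 : Function.Bijective (fun ψ : DRing.toD (baseC (Ideal.span (s : Set A) ⊔ Ideal.span {f}) P) ⟶ E =>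
        φ ≫ ψ) := by
      refine bijective_precomp_of_ker_coker (insert f s) hf' φ (fun i x hx hfx => ?_) (fun i x hx => ?_)
        (fun i y x hxy => ?_) (fun i y => ?_) hE
      · apply (hC P _ i).injective
        rw [map_zero]
        exact (bijective_ker (hAR i) _ f).1 _ (by rw [← hC_comp P hle, hx, map_zero]) (by rw [← map_smul, hfx, map_zero])
      · obtain ⟨u, hu, hu'⟩ := (bijective_ker (hAR i) _ f).2 (hC P _ i x) (by rw [← hC_comp P hle, hx, map_zero])
        refine ⟨(hC P _ i).symm u, (hC P _ i).injective ?_, (hC P _ i).injective ?_⟩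
        · rw [map_zero, hC_comp P hle, LinearEquiv.apply_symm_apply, hu]
        · rw [map_smul, LinearEquiv.apply_symm_apply, hu']
      · obtain ⟨x', hx'⟩ := injective_coker (hAR i) _ f (hC P _ i y) (hC P _ i x)
          (by rw [← map_smul, hxy, hC_comp P hle])
        exact ⟨(hC P _ i).symm x', (hC P _ i).injective (by rw [hC_comp P hle, LinearEquiv.apply_symm_apply, hx'])⟩
      · obtain ⟨y', x, hyx⟩ := surjective_coker (Ideal.span (s : Set A)) f ⟨s, rfl⟩ (hC P _ i y)
        refine ⟨(hC P _ i).symm y', (hC P _ i).symm x, (hC P _ i).injective ?_⟩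
        rw [map_add, map_smul, hC_comp P hle, LinearEquiv.apply_symm_apply, LinearEquiv.apply_symm_apply, hyx]
    refine Eq.mp (congrArg Function.Bijective (funext fun ψ => ?_)) ((ih E hE').comp h1)
    show _ ≫ φ ≫ ψ = _
    rw [← Category.assoc, ← Functor.map_comp, unit_comp]

omit hP in
/-- Derived completion and adic completion of finite cohomology. -/
theorem exists_adic (I : Ideal A) [DRing.HasDerivedCompletion I] (K : Dual.D A)
    (hK : ∀ n : ℤ, Module.Finite A (Dual.HD A K n)) (n : ℤ) :
    ∃ e : Dual.HD A ((DRing.derivedCompletion I).obj K).obj n ≃ₗ[A] AdicCompletion I (Dual.HD A K n),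
      ∀ x : Dual.HD A K n,
        e (hm n (DRing.toDerivedCompletion I K) x) = AdicCompletion.of I (Dual.HD A K n) x := by
  obtain ⟨s, hs⟩ := IsNoetherian.noetherian I
  subst hs
  let P := DerivedCategory.Q.objPreimage K
  let eK : DRing.toD P ≅ K := DerivedCategory.Q.objObjPreimageIso K
  haveI : ∀ m, Module.Finite A (P.homology m) := fun m =>
    haveI := hK m
    Module.Finite.equiv ((hEquiv m eK).symm.trans (hQ P m))
  haveI : IsAdicComplete (Ideal.span (s : Set A)) (AdicCompletion (Ideal.span (s : Set A)) A) :=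
    AdicCompletion.isAdicComplete ⟨s, rfl⟩
  have hc : IsCompletion (Ideal.span (s : Set A))
      (DerivedCategory.Q.map (unitCxB (AdicCompletion (Ideal.span (s : Set A)) A) P)) := by
    refine ⟨(isDerivedComplete_iff _ _).2 fun g hg m => ?_, bijective_precomp_unitB P s⟩
    haveI : IsAdicComplete (Ideal.span (s : Set A)) (AdicCompletion (Ideal.span (s : Set A)) (P.homology m)) :=
      AdicCompletion.isAdicComplete ⟨s, rfl⟩
    exact (bij_of_isAdicComplete _ hg).of_equiv (hC P _ m).symm
  obtain ⟨E, hE⟩ := ((isCompletion_unit (I := Ideal.span (s : Set A)) K).of_iso eK.symm (Iso.refl _)).exists_iso hc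
  let j : P.homology n ≃ₗ[A] Dual.HD A K n := (hQ P n).symm.trans (hEquiv n eK)
  refine ⟨((hEquiv n E).trans (hC P _ n)).trans ((AdicCompletion.congr (Ideal.span (s : Set A)) j).restrictScalars A), fun x => ?_⟩
  have hx : hm n E.hom (hm n (DRing.toDerivedCompletion (Ideal.span (s : Set A)) K) x) =
      hm n (DerivedCategory.Q.map (unitCxB (AdicCompletion (Ideal.span (s : Set A)) A) P)) (hm n eK.inv x) := by
    rw [← hm_comp_apply, ← hm_comp_apply, ← hE]
    simp
  show AdicCompletion.congr (Ideal.span (s : Set A)) j (hC P _ n (hm n E.hom _)) = _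
  rw [hx, hC_unit]
  refine AdicCompletion.ext fun k => ?_
  show (Submodule.Quotient.mk (j (hQ P n ((hEquiv n eK).symm x))) : _ ⧸ _) = _
  simp [j]

end Groth.Agent.H4DR.DComplete
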