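import Groth.Agent.H4DR.DComplete.Completion
import Groth.Agent.H4DR.Hom.HLinear
import Groth.Agent.H4DR.PCoh.Les

/-!
# Maps whose kernels and cokernels on cohomology are `f`-invertible
-/

set_option autoImplicit false
set_option linter.style.haveILetI false

universe u

open CategoryTheory CategoryTheory.Limits Pretriangulated
open Groth.Agent.H4DR.PCoh

attribute [local instance] HasDerivedCategory.standard

namespace Groth.Agent.H4DR.DComplete

variable {A : Type u} [CommRing A]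

lemma hm_smul {K L : Dual.D A} (i : ℤ) (r : A) (φ : K ⟶ L) (x : Dual.HD A K i) :
    hm i (r • φ) x = r • hm i φ x := congrArg (fun t => t.hom x) (Hom.H_map_smul r φ i)

/-- Objects on which `f` is invertible are orthogonal to complete ones. -/
theorem hom_eq_zero_of_bijective (s : Finset A) {f : A} (hf : f ∈ Ideal.span (s : Set A)) (C : Dual.D A)
    (hC : ∀ i, Function.Bijective (fun x : Dual.HD A C i => f • x))
    {E : Dual.D A} (hE : DRing.IsDerivedComplete (Ideal.span (s : Set A)) E) (ψ : C ⟶ E) : ψ = 0 := by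
  have hiso : IsIso (f • 𝟙 C) := by
    rw [DerivedCategory.isIso_iff]
    intro i
    rw [ConcreteCategory.isIso_iff_bijective]
    refine Eq.mp (congrArg Function.Bijective (funext fun x => ?_)) (hC i)
    show f • x = hm i (f • 𝟙 C) x
    rw [hm_smul, hm_id]
    rfl
  obtain ⟨J, η, hJ, hac, hbij, -, -⟩ := exists_completion s C
  haveI := hJ
  have hJc := isDerivedComplete_of_acyclic_coind s J hac
  obtain ⟨g, hg⟩ := (hbij _ hJc).2 (inv (f • 𝟙 C) ≫ η)
  have hfg : f • g = 𝟙 _ := (hbij _ hJc).1 (by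
    show η ≫ (f • g) = η ≫ 𝟙 _
    have hg' : η ≫ g = inv (f • 𝟙 C) ≫ η := hg
    rw [Category.comp_id, Linear.comp_smul, hg', ← Linear.smul_comp, ← Category.id_comp (inv (f • 𝟙 C)),
      ← Linear.smul_comp, IsIso.hom_inv_id, Category.id_comp])
  have hzero : ∀ i, Subsingleton (Dual.HD A (DRing.toD J) i) := fun i =>
    subsingleton_of_forall_eq 0 fun x => by
      have hb := (isDerivedComplete_iff _ _).1 hJc f hf i
      refine hb.eq_zero (m := fun k => (hm i g)^[k] x) (fun k => ?_) 0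
      rw [Function.iterate_succ_apply']
      show _ = f • hm i g _
      rw [← hm_smul, hfg, hm_id]
      rfl
  obtain ⟨y, rfl⟩ := (hbij E hE).2 ψ
  have hz : IsZero (DRing.toD J) := by
    rw [IsZero.iff_id_eq_zero]
    haveI : IsIso (0 : DRing.toD J ⟶ DRing.toD J) := by
      rw [DerivedCategory.isIso_iff]
      intro i
      rw [ConcreteCategory.isIso_iff_bijective]
      haveI := hzero i
      exact ⟨fun a b _ => Subsingleton.elim a b, fun b => ⟨0, Subsingleton.elim _ _⟩⟩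
    exact (cancel_epi (0 : DRing.toD J ⟶ DRing.toD J)).1 (by rw [zero_comp, zero_comp])
  show η ≫ y = 0
  rw [hz.eq_of_src y 0, comp_zero]

/-- The cone of a map with `f`-invertible kernels and cokernels. -/
lemma smul_bijective_obj₃ (T : Triangle (Dual.D A)) (hT : T ∈ distTriang (Dual.D A)) (f : A)
    (hk₁ : ∀ i x, hm i T.mor₁ x = 0 → f • x = 0 → x = 0)
    (hk₂ : ∀ i x, hm i T.mor₁ x = 0 → ∃ u, hm i T.mor₁ u = 0 ∧ f • u = x)
    (hc₁ : ∀ i (y : Dual.HD A T.obj₂ i) x, f • y = hm i T.mor₁ x → ∃ x', hm i T.mor₁ x' = y)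
    (hc₂ : ∀ i (y : Dual.HD A T.obj₂ i), ∃ y' x, f • y' + hm i T.mor₁ x = y) (i : ℤ) :
    Function.Bijective (fun c : Dual.HD A T.obj₃ i => f • c) := by
  refine ⟨(injective_iff_map_eq_zero (LinearMap.lsmul A _ f)).2 fun c hc => ?_, fun c => ?_⟩
  · replace hc : f • c = 0 := hc
    have h0 : δl T i (i + 1) rfl c = 0 := hk₁ (i + 1) _ ((ex₁ T hT i (i + 1) rfl _).2 ⟨c, rfl⟩)
      (by rw [← map_smul, hc, map_zero])
    obtain ⟨l, rfl⟩ := (ex₃ T hT i (i + 1) rfl c).1 h0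
    obtain ⟨k, hk⟩ := (ex₂ T hT i (f • l)).1 (by rw [map_smul, hc])
    obtain ⟨x', rfl⟩ := hc₁ i l k hk.symm
    exact (ex₂ T hT i _).2 ⟨x', rfl⟩
  · obtain ⟨k, hk0, hk⟩ := hk₂ (i + 1) (δl T i (i + 1) rfl c) ((ex₁ T hT i (i + 1) rfl _).2 ⟨c, rfl⟩)
    obtain ⟨c', rfl⟩ := (ex₁ T hT i (i + 1) rfl k).1 hk0
    obtain ⟨l, hl⟩ := (ex₃ T hT i (i + 1) rfl (c - f • c')).1 (by rw [map_sub, map_smul, hk, sub_self])
    obtain ⟨l', x, rfl⟩ := hc₂ i l
    refine ⟨c' + hm i T.mor₂ l', ?_⟩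
    show f • (c' + hm i T.mor₂ l') = c
    rw [map_add, map_smul, (ex₂ T hT i _).2 ⟨x, rfl⟩, add_zero] at hl
    rw [smul_add, hl, add_sub_cancel]

/-- Complete objects do not distinguish such maps. -/
theorem bijective_precomp_of_ker_coker (s : Finset A) {f : A} (hf : f ∈ Ideal.span (s : Set A))
    {K L : Dual.D A} (φ : K ⟶ L)
    (hk₁ : ∀ i x, hm i φ x = 0 → f • x = 0 → x = 0)
    (hk₂ : ∀ i x, hm i φ x = 0 → ∃ u, hm i φ u = 0 ∧ f • u = x)
    (hc₁ : ∀ i (y : Dual.HD A L i) x, f • y = hm i φ x → ∃ x', hm i φ x' = y)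
    (hc₂ : ∀ i (y : Dual.HD A L i), ∃ y' x, f • y' + hm i φ x = y)
    {E : Dual.D A} (hE : DRing.IsDerivedComplete (Ideal.span (s : Set A)) E) :
    Function.Bijective (fun ψ : L ⟶ E => φ ≫ ψ) := by
  obtain ⟨C, p, q, hT⟩ := distinguished_cocone_triangle φ
  have hC := smul_bijective_obj₃ _ hT f hk₁ hk₂ hc₁ hc₂
  have h0 : ∀ (E' : Dual.D A), DRing.IsDerivedComplete (Ideal.span (s : Set A)) E' → ∀ y : C ⟶ E', y = 0 :=
    fun E' hE' y => hom_eq_zero_of_bijective s hf C hC hE' y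
  refine ⟨fun a b hab => ?_, fun x => ?_⟩
  · obtain ⟨z, hz⟩ := Triangle.yoneda_exact₂ _ hT (a - b) (by
      show φ ≫ (a - b) = 0
      rw [Preadditive.comp_sub, sub_eq_zero]
      exact hab)
    exact sub_eq_zero.1 (hz.trans ((congrArg _ (h0 E hE z)).trans comp_zero))
  · obtain ⟨z, hz⟩ := Triangle.yoneda_exact₃ _ (rot_of_distTriang _ hT)
      ((CategoryTheory.shiftFunctor (Dual.D A) (1 : ℤ)).map x) (h0 _ (isDerivedComplete_shift hE 1) _)
    obtain ⟨w, hw⟩ : ∃ w : L⟦(1 : ℤ)⟧ ⟶ E⟦(1 : ℤ)⟧, (CategoryTheory.shiftFunctor (Dual.D A) (1 : ℤ)).map x =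
        (-(CategoryTheory.shiftFunctor (Dual.D A) (1 : ℤ)).map φ) ≫ w := ⟨z, hz⟩
    obtain ⟨z', rfl⟩ := (CategoryTheory.shiftFunctor (Dual.D A) (1 : ℤ)).map_surjective w
    refine ⟨-z', (CategoryTheory.shiftFunctor (Dual.D A) (1 : ℤ)).map_injective ?_⟩
    show (CategoryTheory.shiftFunctor (Dual.D A) (1 : ℤ)).map (φ ≫ (-z')) = _
    rw [Functor.map_comp, Functor.map_neg, hw, Preadditive.comp_neg]
    exact (Preadditive.neg_comp _ _).symm

end Groth.Agent.H4DR.DComplete
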