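import Groth.Agent.H4DR.DComplete.Adic.Module
import Groth.Agent.H4DR.DComplete.Triangle
import Groth.Agent.H4DR.DComplete.Change
import Groth.Agent.H16Derived.KFlat.BoundedAbove
import Mathlib.Algebra.Homology.Embedding.CochainComplex

/-!
# Termwise adic completion of bounded complexes is derived completion
-/

set_option autoImplicit false
set_option linter.style.haveILetI false
set_option linter.unusedVariables false

universe u

open CategoryTheory CategoryTheory.Limits Pretriangulated
open Groth.Agent.H16Derived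

attribute [local instance] HasDerivedCategory.standard

namespace Groth.Agent.H4DR.DComplete

variable {A : Type u} [CommRing A]

lemma ARTor.prod {X Y : Type u} [AddCommGroup X] [Module A X] [AddCommGroup Y] [Module A Y]
    (hX : ARTor (A := A) X) (hY : ARTor (A := A) Y) : ARTor (A := A) (X × Y) where
  bounded f := by
    obtain ⟨c, hc⟩ := hX.bounded f
    obtain ⟨d, hd⟩ := hY.bounded f
    refine ⟨c + d, fun n z hz => Prod.ext ?_ ?_⟩
    · show f ^ (c + d) • z.1 = 0
      rw [pow_add, mul_comm, mul_smul, hc n z.1 (congrArg Prod.fst hz), smul_zero]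
    · show f ^ (c + d) • z.2 = 0
      rw [pow_add, mul_smul, hd n z.2 (congrArg Prod.snd hz), smul_zero]
  lift J f n := by
    obtain ⟨k, hk⟩ := hX.lift J f n
    obtain ⟨l, hl⟩ := hY.lift J f n
    refine ⟨k + l, fun m z hz => ?_⟩
    have h1 : ∀ (a b : ℕ), a ≤ b → ∀ w : X × Y, w ∈ (J ^ b • ⊤ : Submodule A (X × Y)) →
        w.1 ∈ (J ^ a • ⊤ : Submodule A X) ∧ w.2 ∈ (J ^ a • ⊤ : Submodule A Y) := fun a b hab w hw => by
      refine Submodule.smul_induction_on hw (fun r hr p _ => ?_) (fun p q hp hq => ⟨add_mem hp.1 hq.1, add_mem hp.2 hq.2⟩)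
      exact ⟨Submodule.smul_mem_smul (Ideal.pow_le_pow_right hab hr) Submodule.mem_top,
        Submodule.smul_mem_smul (Ideal.pow_le_pow_right hab hr) Submodule.mem_top⟩
    obtain ⟨t, ht, ht'⟩ := hk m z.1 ((h1 (m + k) (m + (k + l)) (by omega) _ hz).1)
    obtain ⟨s, hs, hs'⟩ := hl m z.2 ((h1 (m + l) (m + (k + l)) (by omega) _ hz).2)
    refine ⟨(t, s), Prod.ext ht hs, ?_⟩
    have e : z - (t, s) = LinearMap.inl A X Y (z.1 - t) + LinearMap.inr A X Y (z.2 - s) := by
      refine Prod.ext ?_ ?_ <;> simp
    rw [e]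
    exact add_mem (Submodule.smul_top_le_comap_smul_top _ (LinearMap.inl A X Y) ht')
      (Submodule.smul_top_le_comap_smul_top _ (LinearMap.inr A X Y) hs')

lemma ARTor.of_subsingleton {X : Type u} [AddCommGroup X] [Module A X] [Subsingleton X] : ARTor (A := A) X where
  bounded f := ⟨0, fun _ _ _ => Subsingleton.elim _ _⟩
  lift J f n := ⟨0, fun m x _ => ⟨0, smul_zero _, by rw [Subsingleton.elim (x - 0) 0]; exact zero_mem _⟩⟩

lemma mem_smul_top_localized {S : Submonoid A} {X : Type u} [AddCommGroup X] [Module A X] (J : Ideal A)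
    {z : LocalizedModule S X} (hz : z ∈ (J • ⊤ : Submodule A (LocalizedModule S X))) :
    ∃ (j : X) (s : S), j ∈ (J • ⊤ : Submodule A X) ∧ z = LocalizedModule.mk j s := by
  refine Submodule.smul_induction_on hz (fun r hr p _ => ?_) (fun p q hp hq => ?_)
  · induction p using LocalizedModule.induction_on with
    | h y s => exact ⟨r • y, s, Submodule.smul_mem_smul hr Submodule.mem_top, LocalizedModule.smul'_mk _ _ _⟩
  · obtain ⟨j, s, hj, rfl⟩ := hp
    obtain ⟨j', s', hj', rfl⟩ := hq
    exact ⟨s' • j + s • j', s * s', add_mem (Submodule.smul_mem _ _ hj) (Submodule.smul_mem _ _ hj'),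
      LocalizedModule.mk_add_mk⟩

lemma mk_mem_smul_top {S : Submonoid A} {X : Type u} [AddCommGroup X] [Module A X] (J : Ideal A)
    {j : X} (s : S) (hj : j ∈ (J • ⊤ : Submodule A X)) :
    LocalizedModule.mk j s ∈ (J • ⊤ : Submodule A (LocalizedModule S X)) := by
  refine Submodule.smul_induction_on hj (fun r hr p _ => ?_) (fun p q hp hq => ?_)
  · rw [← LocalizedModule.smul'_mk]
    exact Submodule.smul_mem_smul hr Submodule.mem_top
  · have : LocalizedModule.mk (p + q) s = LocalizedModule.mk p s + LocalizedModule.mk q s := by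
      rw [LocalizedModule.mk_add_mk, ← smul_add, LocalizedModule.mk_cancel_common_left]
    rw [this]
    exact add_mem hp hq

theorem ARTor.localization {X : Type u} [AddCommGroup X] [Module A X] (h : ARTor (A := A) X) (S : Submonoid A) :
    ARTor (A := A) (LocalizedModule S X) where
  bounded g := by
    obtain ⟨c, hc⟩ := h.bounded g
    refine ⟨c, fun n z hz => ?_⟩
    induction z using LocalizedModule.induction_on with
    | h x s =>
      rw [LocalizedModule.smul'_mk] at hz
      obtain ⟨v, hv⟩ := LocalizedModule.mk_eq.1 (hz.trans (LocalizedModule.zero_mk s).symm)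
      simp only [smul_zero, Submonoid.smul_def, smul_smul] at hv
      rw [LocalizedModule.smul'_mk, ← LocalizedModule.zero_mk s, LocalizedModule.mk_eq]
      refine ⟨v, ?_⟩
      simp only [smul_zero, Submonoid.smul_def, smul_smul]
      have := hc n ((v : A) • (s : A) • x) (by rw [smul_smul, smul_smul, ← hv]; ring_nf)
      rw [smul_smul, smul_smul] at this
      rw [← this]
      ring_nf
  lift J g n := by
    obtain ⟨k, hk⟩ := h.lift J g n
    refine ⟨k, fun m z hz => ?_⟩
    induction z using LocalizedModule.induction_on with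
    | h x s =>
      obtain ⟨j, t, hj, he⟩ := mem_smul_top_localized (J ^ (m + k)) hz
      rw [LocalizedModule.smul'_mk] at he
      obtain ⟨v, hv⟩ := LocalizedModule.mk_eq.1 he
      simp only [Submonoid.smul_def] at hv
      obtain ⟨t₀, h₀, h₀'⟩ := hk m ((v : A) • (t : A) • x) (by
        rw [smul_comm (g ^ n) (v : A), smul_comm (g ^ n) (t : A), hv]
        exact Submodule.smul_mem _ _ (Submodule.smul_mem _ _ hj))
      refine ⟨LocalizedModule.mk t₀ (v * t * s), ?_, ?_⟩
      · rw [LocalizedModule.smul'_mk, h₀, LocalizedModule.zero_mk]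
      · have e : LocalizedModule.mk x s = LocalizedModule.mk ((v : A) • (t : A) • x) (v * t * s) := by
          refine LocalizedModule.mk_eq.2 ⟨1, ?_⟩
          simp only [Submonoid.smul_def, Submonoid.coe_mul, one_smul, smul_smul]
          ring_nf
        have e' : LocalizedModule.mk x s - LocalizedModule.mk t₀ (v * t * s) =
            LocalizedModule.mk ((v : A) • (t : A) • x - t₀) (v * t * s) := by
          rw [e, sub_eq_iff_eq_add, LocalizedModule.mk_add_mk, ← smul_add, LocalizedModule.mk_cancel_common_left,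
            sub_add_cancel]
        rw [e']
        exact mk_mem_smul_top _ _ h₀'

lemma IsCompletion.shift {I : Ideal A} {K X : Dual.D A} {η : K ⟶ X} (h : IsCompletion I η) (n : ℤ) :
    IsCompletion I (η⟦n⟧') where
  complete := isDerivedComplete_shift h.complete n
  bij E hE := by
    let e : (E⟦-n⟧)⟦n⟧ ≅ E := (shiftFunctorCompIsoId (Dual.D A) (-n) n (by omega)).app E
    have hb := h.bij _ (isDerivedComplete_shift hE (-n))
    refine ⟨fun φ φ' hφ => ?_, fun v => ?_⟩
    · obtain ⟨a, ha⟩ := (shiftFunctor (Dual.D A) n).map_surjective (φ ≫ e.inv)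
      obtain ⟨a', ha'⟩ := (shiftFunctor (Dual.D A) n).map_surjective (φ' ≫ e.inv)
      have : η ≫ a = η ≫ a' := (shiftFunctor (Dual.D A) n).map_injective (by
        rw [Functor.map_comp, Functor.map_comp, ha, ha', ← Category.assoc, ← Category.assoc]
        exact congrArg (· ≫ e.inv) hφ)
      rw [← cancel_mono e.inv, ← ha, ← ha', hb.1 this]
    · obtain ⟨a, ha⟩ := (shiftFunctor (Dual.D A) n).map_surjective (v ≫ e.inv)
      obtain ⟨b, hb'⟩ := hb.2 a
      refine ⟨b⟦n⟧' ≫ e.hom, ?_⟩
      show η⟦n⟧' ≫ b⟦n⟧' ≫ e.hom = v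
      rw [← Category.assoc, ← Functor.map_comp, show η ≫ b = a from hb', ha, Category.assoc, Iso.inv_hom_id,
        Category.comp_id]

lemma IsCompletion.congr {I : Ideal A} {K X K' X' : Dual.D A} {η : K ⟶ X} (h : IsCompletion I η)
    {η' : K' ⟶ X'} (eK : K ≅ K') (eX : X ≅ X') (w : η ≫ eX.hom = eK.hom ≫ η') : IsCompletion I η' := by
  have := h.of_iso eK eX
  rwa [w, Iso.inv_hom_id_assoc] at this

variable (I : Ideal A)

/-- Adic completion as a functor. -/
noncomputable def acF : ModuleCat.{u} A ⥤ ModuleCat.{u} A where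
  obj M := ModuleCat.of A (AdicCompletion I M)
  map f := ModuleCat.ofHom ((AdicCompletion.map I f.hom).restrictScalars A)
  map_id M := ModuleCat.hom_ext (LinearMap.ext fun x => by simp)
  map_comp f g := ModuleCat.hom_ext (LinearMap.ext fun x => (AdicCompletion.map_comp_apply I f.hom g.hom x).symm)

instance : (acF I).Additive where
  map_add {X Y f g} := ModuleCat.hom_ext (LinearMap.ext fun x => AdicCompletion.ext fun n => by
    show LinearMap.reduceModIdeal (I ^ n) (f.hom + g.hom) (x.val n) =
      LinearMap.reduceModIdeal (I ^ n) f.hom (x.val n) + LinearMap.reduceModIdeal (I ^ n) g.hom (x.val n)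
    obtain ⟨w, hw⟩ := Submodule.Quotient.mk_surjective _ (x.val n)
    rw [← hw]
    rfl)

/-- The map to the completion. -/
noncomputable def acη : 𝟭 (ModuleCat.{u} A) ⟶ acF I where
  app M := ModuleCat.ofHom (AdicCompletion.of I M)
  naturality M N f := ModuleCat.hom_ext (LinearMap.ext fun x => (AdicCompletion.map_of I f.hom x).symm)

/-- Termwise completion. -/
noncomputable abbrev acC (P : DRing.Cx A) : DRing.Cx A := ((acF I).mapHomologicalComplex (ComplexShape.up ℤ)).obj P

/-- The map to the termwise completion. -/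
noncomputable def ηC (P : DRing.Cx A) : P ⟶ acC I P where
  f i := (acη I).app (P.X i)
  comm' i j _ := ((acη I).naturality (P.d i j)).symm

lemma ηC_naturality {P P' : DRing.Cx A} (g : P ⟶ P') :
    g ≫ ηC I P' = ηC I P ≫ ((acF I).mapHomologicalComplex (ComplexShape.up ℤ)).map g := by
  ext i : 1
  exact (acη I).naturality (g.f i)

theorem isCompletion_ηC_single (hI : I.FG) (n : ℤ) (X : ModuleCat.{u} A) (hX : ARTor (A := A) X) :
    IsCompletion I (DerivedCategory.Q.map
      (ηC I ((HomologicalComplex.single (ModuleCat.{u} A) (ComplexShape.up ℤ) n).obj X))) := by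
  have h0 : IsCompletion I ((DerivedCategory.singleFunctor (ModuleCat.{u} A) 0).map ((acη I).app X)) :=
    isCompletion_adic hX I hI
  let σ := (DerivedCategory.singleFunctors (ModuleCat.{u} A)).shiftIso (-n) n 0 (by omega)
  have h1 : IsCompletion I ((DerivedCategory.singleFunctor (ModuleCat.{u} A) n).map ((acη I).app X)) :=
    (h0.shift (-n)).congr (σ.app _) (σ.app _) (σ.hom.naturality ((acη I).app X))
  refine h1.congr (Iso.refl _) (DerivedCategory.Q.mapIso
    ((HomologicalComplex.singleMapHomologicalComplex (acF I) (ComplexShape.up ℤ) n).app X).symm) ?_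
  refine Eq.trans ?_ (Category.id_comp _).symm
  refine (DerivedCategory.Q.map_comp _ _).symm.trans ?_
  refine congrArg DerivedCategory.Q.map (HomologicalComplex.from_single_hom_ext ?_)
  show ((HomologicalComplex.single (ModuleCat.{u} A) (ComplexShape.up ℤ) n).map ((acη I).app X)).f n ≫
    ((HomologicalComplex.singleMapHomologicalComplex (acF I) (ComplexShape.up ℤ) n).inv.app X).f n =
      (acη I).app (((HomologicalComplex.single (ModuleCat.{u} A) (ComplexShape.up ℤ) n).obj X).X n)
  have key : ∀ {Y Y' : ModuleCat.{u} A} (e : Y ≅ X) (e' : Y' ≅ (acF I).obj X),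
      (e.hom ≫ (acη I).app X ≫ e'.inv) ≫ (e'.hom ≫ (acF I).map e.inv) = (acη I).app Y := fun {Y Y'} e e' => by
    have hn := (acη I).naturality e.hom
    rw [Functor.id_map] at hn
    rw [Category.assoc, Category.assoc, Iso.inv_hom_id_assoc, ← Category.assoc, hn, Category.assoc,
      ← Functor.map_comp, Iso.hom_inv_id, CategoryTheory.Functor.map_id]
    exact Category.comp_id _
  rw [HomologicalComplex.singleMapHomologicalComplex_inv_app_self, HomologicalComplex.single_map_f_self]
  exact key _ _

theorem isCompletion_ηC_of_iso {P P' : DRing.Cx A} (e : P ≅ P') (h : IsCompletion I (DerivedCategory.Q.map (ηC I P))) :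
    IsCompletion I (DerivedCategory.Q.map (ηC I P')) :=
  h.congr (DerivedCategory.Q.mapIso e) (DerivedCategory.Q.mapIso (((acF I).mapHomologicalComplex _).mapIso e)) (by
    show DerivedCategory.Q.map _ ≫ DerivedCategory.Q.map _ = DerivedCategory.Q.map _ ≫ DerivedCategory.Q.map _
    rw [← Functor.map_comp, ← Functor.map_comp, ηC_naturality]
    rfl)

/-- Termwise completion of a bounded complex. -/
theorem isCompletion_ηC (hI : I.FG) : ∀ (k : ℕ) (a : ℤ) (P : DRing.Cx A), (∀ i, i < a → IsZero (P.X i)) →
    (∀ i, a + k ≤ i → IsZero (P.X i)) → (∀ i, ARTor (A := A) (P.X i)) →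
    IsCompletion I (DerivedCategory.Q.map (ηC I P)) := by
  intro k
  induction k with
  | zero =>
    intro a P hlo hhi _
    have hz : ∀ i, IsZero (P.X i) := fun i => if h : i < a then hlo i h else hhi i (by simp; omega)
    haveI : P.IsStrictlyGE a := (CochainComplex.isStrictlyGE_iff _ _).2 fun i _ => hz i
    haveI : P.IsStrictlyLE a := (CochainComplex.isStrictlyLE_iff _ _).2 fun i _ => hz i
    obtain ⟨M, ⟨e⟩⟩ := P.exists_iso_single a
    haveI : Subsingleton M := ModuleCat.subsingleton_of_isZero (((hz a).of_iso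
      (((HomologicalComplex.eval (ModuleCat.{u} A) (ComplexShape.up ℤ) a).mapIso e).symm)).of_iso
      (HomologicalComplex.singleObjXSelf (ComplexShape.up ℤ) a M).symm)
    exact isCompletion_ηC_of_iso I e.symm (isCompletion_ηC_single I hI a M ARTor.of_subsingleton)
  | succ k ih =>
    intro a P hlo hhi hAR
    let S := KFlat.Brutal.S P (a + 1)
    have h1 : IsCompletion I (DerivedCategory.Q.map (ηC I S.X₁)) := by
      refine ih (a + 1) _ (fun i hi => KFlat.Brutal.isZero_geq P _ hi) (fun i hi => ?_) (fun i => ?_)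
      · haveI := KFlat.Brutal.isIso_ι_f P (a + 1) (q := i) (by omega)
        exact (hhi i (by omega)).of_iso (asIso ((KFlat.Brutal.ι P (a + 1)).f i))
      · by_cases h : a + 1 ≤ i
        · haveI := KFlat.Brutal.isIso_ι_f P (a + 1) (q := i) h
          exact (hAR i).of_equiv (asIso ((KFlat.Brutal.ι P (a + 1)).f i)).symm.toLinearEquiv
        · haveI := ModuleCat.subsingleton_of_isZero (KFlat.Brutal.isZero_geq P (a + 1) (q := i) (by omega))
          exact ARTor.of_subsingleton
    have h3 : IsCompletion I (DerivedCategory.Q.map (ηC I S.X₃)) := by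
      haveI : CochainComplex.IsStrictlyGE S.X₃ a := (CochainComplex.isStrictlyGE_iff _ _).2 fun i hi =>
        KFlat.Brutal.isZero_cokernel' P (a + 1) (hlo i hi)
      haveI : CochainComplex.IsStrictlyLE S.X₃ a := (CochainComplex.isStrictlyLE_iff _ _).2 fun i hi =>
        KFlat.Brutal.isZero_cokernel P (a + 1) (by omega)
      obtain ⟨M, ⟨e⟩⟩ := CochainComplex.exists_iso_single S.X₃ a
      haveI := KFlat.Brutal.isIso_cokernel_π P (a + 1) (q := a) (by omega)
      refine isCompletion_ηC_of_iso I e.symm (isCompletion_ηC_single I hI a M ((hAR a).of_equiv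
        (asIso ((cokernel.π (KFlat.Brutal.ι P (a + 1))).f a) ≪≫
          (HomologicalComplex.eval (ModuleCat.{u} A) (ComplexShape.up ℤ) a).mapIso e ≪≫
          HomologicalComplex.singleObjXSelf (ComplexShape.up ℤ) a M).toLinearEquiv))
    let F := (acF I).mapHomologicalComplex (ComplexShape.up ℤ)
    have hS : S.ShortExact := KFlat.Brutal.shortExact P (a + 1)
    have hS' : (S.map F).ShortExact := HomologicalComplex.shortExact_of_degreewise_shortExact _ fun i =>
      ((KFlat.Brutal.splitting P (a + 1) i).some.map (acF I)).shortExact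
    let T := DerivedCategory.triangleOfSES hS
    let T' := DerivedCategory.triangleOfSES hS'
    let ψ : S ⟶ S.map F :=
      { τ₁ := ηC I S.X₁, τ₂ := ηC I S.X₂, τ₃ := ηC I S.X₃
        comm₁₂ := (ηC_naturality I S.f).symm, comm₂₃ := (ηC_naturality I S.g).symm }
    exact isCompletion_obj₃ (inv_rot_of_distTriang _ (DerivedCategory.triangleOfSES_distinguished hS))
      (inv_rot_of_distTriang _ (DerivedCategory.triangleOfSES_distinguished hS'))
      ((invRotate (Dual.D A)).map (DerivedCategory.triangleOfSES.map hS hS' ψ)) (h3.shift (-1)) h1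

end Groth.Agent.H4DR.DComplete
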