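import Mathlib.RingTheory.Filtration
import Mathlib.RingTheory.Flat.Basic

/-!
# Artin–Rees control of torsion
-/

set_option autoImplicit false

universe u

open scoped TensorProduct

namespace Groth.Agent.H4DR.DComplete

variable {A : Type u} [CommRing A]

/-- Torsion is bounded, and controlled modulo powers of ideals. -/
structure ARTor (X : Type u) [AddCommGroup X] [Module A X] : Prop where
  bounded : ∀ f : A, ∃ c : ℕ, ∀ (n : ℕ) (x : X), f ^ n • x = 0 → f ^ c • x = 0
  lift : ∀ (J : Ideal A) (f : A) (n : ℕ), ∃ k : ℕ, ∀ (m : ℕ) (x : X),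
    f ^ n • x ∈ (J ^ (m + k) • ⊤ : Submodule A X) → ∃ t : X, f ^ n • t = 0 ∧ x - t ∈ (J ^ m • ⊤ : Submodule A X)

variable (M N : Type u) [AddCommGroup M] [Module A M] [AddCommGroup N] [Module A N]

lemma range_rTensor_subtype_smul (J : Ideal A) :
    LinearMap.range ((J • ⊤ : Submodule A M).subtype.rTensor N) = (J • ⊤ : Submodule A (M ⊗[A] N)) := by
  refine le_antisymm ?_ (Submodule.smul_le.2 fun a ha x _ => ?_)
  · rintro _ ⟨w, rfl⟩
    induction w with
    | zero => simp
    | add x y hx hy => rw [map_add]; exact add_mem hx hy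
    | tmul p z =>
      rw [LinearMap.rTensor_tmul, Submodule.subtype_apply]
      refine Submodule.smul_induction_on p.2 (fun a ha y _ => ?_) (fun y y' hy hy' => ?_)
      · rw [← TensorProduct.smul_tmul']
        exact Submodule.smul_mem_smul ha Submodule.mem_top
      · rw [TensorProduct.add_tmul]
        exact add_mem hy hy'
  · induction x with
    | zero => simp
    | add x y hx hy => rw [smul_add]; exact add_mem (hx Submodule.mem_top) (hy Submodule.mem_top)
    | tmul y z => exact ⟨⟨a • y, Submodule.smul_mem_smul ha Submodule.mem_top⟩ ⊗ₜ z,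
        (LinearMap.rTensor_tmul _ _ _ _).trans (TensorProduct.smul_tmul' a y z).symm⟩

lemma exists_tensor_preimage [Module.Flat A N] (r : A) (P : Submodule A M) (x : M ⊗[A] N)
    (h : r • x ∈ LinearMap.range (P.subtype.rTensor N)) :
    x ∈ LinearMap.range ((P.comap (LinearMap.lsmul A M r)).subtype.rTensor N) := by
  let φ : M →ₗ[A] M ⧸ P := P.mkQ ∘ₗ LinearMap.lsmul A M r
  have hex : Function.Exact (P.comap (LinearMap.lsmul A M r)).subtype φ := fun y => by
    show φ y = 0 ↔ y ∈ Set.range Subtype.val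
    rw [Subtype.range_coe_subtype]
    exact Submodule.Quotient.mk_eq_zero P
  refine (Module.Flat.rTensor_exact N hex x).1 ?_
  obtain ⟨w, hw⟩ := h
  have e : φ.rTensor N x = P.mkQ.rTensor N (r • x) := by
    show (P.mkQ ∘ₗ LinearMap.lsmul A M r).rTensor N x = _
    rw [LinearMap.rTensor_comp, LinearMap.comp_apply]
    congr 1
  rw [e, ← hw, ← LinearMap.comp_apply, ← LinearMap.rTensor_comp]
  have : P.mkQ ∘ₗ P.subtype = 0 := by
    ext y
    simp
  rw [this, LinearMap.rTensor_zero, LinearMap.zero_apply]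

lemma smul_rTensor_subtype {r : A} (P : Submodule A M) (h : ∀ y ∈ P, r • y = 0) (w : P ⊗[A] N) :
    r • P.subtype.rTensor N w = 0 := by
  induction w with
  | zero => rw [map_zero, smul_zero]
  | add a b ha hb => rw [map_add, smul_add, ha, hb, add_zero]
  | tmul y z => rw [LinearMap.rTensor_tmul, TensorProduct.smul_tmul', Submodule.subtype_apply, h y.1 y.2,
      TensorProduct.zero_tmul]

/-- Tensor products of finite modules with flat modules over Noetherian rings. -/
theorem arTor_tensor [IsNoetherianRing A] [Module.Finite A M] [Module.Flat A N] : ARTor (A := A) (M ⊗[A] N) where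
  bounded f := by
    let K : ℕ →o Submodule A M := ⟨fun n => LinearMap.ker (LinearMap.lsmul A M (f ^ n)), fun a b hab x hx => by
      obtain ⟨d, rfl⟩ := Nat.exists_eq_add_of_le hab
      have hx' : f ^ a • x = 0 := hx
      show f ^ (a + d) • x = 0
      rw [pow_add, mul_comm, mul_smul, hx', smul_zero]⟩
    obtain ⟨c, hc⟩ := monotone_stabilizes_iff_noetherian.2 inferInstance K
    refine ⟨c, fun n x hx => ?_⟩
    have hK : ∀ y ∈ K n, f ^ c • y = 0 := fun y hy => by
      rcases le_total c n with h | h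
      · have hy' : y ∈ K c := by rwa [hc n h]
        exact hy'
      · exact K.monotone h hy
    obtain ⟨w, rfl⟩ := exists_tensor_preimage M N (f ^ n) ⊥ x (by rw [hx]; exact zero_mem _)
    exact smul_rTensor_subtype M N _ (fun y hy => hK y ((Submodule.mem_bot A).1 (Submodule.mem_comap.1 hy))) w
  lift J f n := by
    obtain ⟨k, hk⟩ := Ideal.exists_pow_inf_eq_pow_smul J (LinearMap.range (LinearMap.lsmul A M (f ^ n)))
    refine ⟨k, fun m x hx => ?_⟩
    have hM : ∀ y : M, f ^ n • y ∈ (J ^ (m + k) • ⊤ : Submodule A M) →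
        ∃ t : M, f ^ n • t = 0 ∧ y - t ∈ (J ^ m • ⊤ : Submodule A M) := fun y hy => by
      have h1 : f ^ n • y ∈ J ^ (m + k - k) • (J ^ k • ⊤ ⊓ LinearMap.range (LinearMap.lsmul A M (f ^ n))) := by
        rw [← hk (m + k) (Nat.le_add_left k m)]
        exact ⟨hy, y, rfl⟩
      rw [Nat.add_sub_cancel] at h1
      have h2 : f ^ n • y ∈ Submodule.map (LinearMap.lsmul A M (f ^ n)) (J ^ m • ⊤) := by
        rw [Submodule.map_smul'', Submodule.map_top]
        exact Submodule.smul_mono le_rfl inf_le_right h1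
      obtain ⟨z, hz, hzy⟩ := h2
      exact ⟨y - z, by rw [smul_sub]; exact sub_eq_zero.2 hzy.symm, by rwa [sub_sub_cancel]⟩
    rw [← range_rTensor_subtype_smul] at hx
    obtain ⟨w, rfl⟩ := exists_tensor_preimage M N (f ^ n) _ x hx
    clear hx
    induction w with
    | zero => exact ⟨0, by simp, by simp⟩
    | add a b ha hb =>
      obtain ⟨t, ht, ht'⟩ := ha
      obtain ⟨s, hs, hs'⟩ := hb
      exact ⟨t + s, by rw [smul_add, ht, hs, add_zero], by rw [map_add, add_sub_add_comm]; exact add_mem ht' hs'⟩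
    | tmul y z =>
      obtain ⟨t, ht, ht'⟩ := hM y.1 (Submodule.mem_comap.1 y.2)
      refine ⟨t ⊗ₜ z, by rw [TensorProduct.smul_tmul', ht, TensorProduct.zero_tmul], ?_⟩
      rw [LinearMap.rTensor_tmul, Submodule.subtype_apply, ← TensorProduct.sub_tmul, ← range_rTensor_subtype_smul]
      exact ⟨⟨y.1 - t, ht'⟩ ⊗ₜ z, rfl⟩

/-- Transport. -/
theorem ARTor.of_equiv {X Y : Type u} [AddCommGroup X] [Module A X] [AddCommGroup Y] [Module A Y] (e : X ≃ₗ[A] Y)
    (h : ARTor (A := A) X) : ARTor (A := A) Y where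
  bounded f := by
    obtain ⟨c, hc⟩ := h.bounded f
    refine ⟨c, fun n y hy => e.symm.injective ?_⟩
    rw [map_smul, map_zero]
    exact hc n _ (by rw [← map_smul, hy, map_zero])
  lift J f n := by
    obtain ⟨k, hk⟩ := h.lift J f n
    have he : ∀ (a : ℕ) (x : X), x ∈ (J ^ a • ⊤ : Submodule A X) ↔ e x ∈ (J ^ a • ⊤ : Submodule A Y) := fun a x => by
      have : Submodule.map e.toLinearMap (J ^ a • ⊤ : Submodule A X) = (J ^ a • ⊤ : Submodule A Y) := by
        rw [Submodule.map_smul'', Submodule.map_top, LinearEquiv.range]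
      rw [← this]
      exact (Function.Injective.mem_set_image e.injective).symm
    refine ⟨k, fun m y hy => ?_⟩
    obtain ⟨x, rfl⟩ := e.surjective y
    rw [← map_smul, ← he] at hy
    obtain ⟨t, ht, ht'⟩ := hk m x hy
    exact ⟨e t, by rw [← map_smul, ht, map_zero], by rw [← map_sub, ← he]; exact ht'⟩

end Groth.Agent.H4DR.DComplete
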