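import Groth.Agent.H4DR.DComplete.Adic.Step
import Groth.Agent.H4DR.DComplete.Adic.Orth
import Groth.Agent.H4DR.DComplete.Universal
import Groth.Agent.H4DR.PCoh.Modules
import Mathlib.RingTheory.AdicCompletion.AsTensorProduct

/-!
# The derived completion of a module with controlled torsion is its adic completion
-/

set_option autoImplicit false
set_option linter.style.haveILetI false

universe u

open CategoryTheory CategoryTheory.Limits Pretriangulated
open Groth.Agent.H4DR.PCoh
open scoped TensorProduct

attribute [local instance] HasDerivedCategory.standard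

namespace Groth.Agent.H4DR.DComplete

variable {A : Type u} [CommRing A]

/-- `H^0` of a module. -/
noncomputable def e0 (M : ModuleCat.{u} A) : Dual.HD A (Dual.inD A M) 0 ≃ₗ[A] M :=
  ((DerivedCategory.singleFunctorCompHomologyFunctorIso (ModuleCat.{u} A) 0).app M).toLinearEquiv

lemma e0_naturality {M N : ModuleCat.{u} A} (g : M ⟶ N) (x : Dual.HD A (Dual.inD A M) 0) :
    e0 N (hm 0 ((DerivedCategory.singleFunctor (ModuleCat.{u} A) 0).map g) x) = g.hom (e0 M x) :=
  congrArg (fun t => t.hom x)
    ((DerivedCategory.singleFunctorCompHomologyFunctorIso (ModuleCat.{u} A) 0).hom.naturality g)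

/-- Complete objects do not see module maps with `f`-invertible kernel and cokernel. -/
theorem bijective_precomp_inD (s : Finset A) {f : A} (hf : f ∈ Ideal.span (s : Set A)) {M N : ModuleCat.{u} A}
    (g : M ⟶ N)
    (hk₁ : ∀ x, g.hom x = 0 → f • x = 0 → x = 0)
    (hk₂ : ∀ x, g.hom x = 0 → ∃ u, g.hom u = 0 ∧ f • u = x)
    (hc₁ : ∀ (y : N) (x : M), f • y = g.hom x → ∃ x', g.hom x' = y)
    (hc₂ : ∀ y : N, ∃ (y' : N) (x : M), f • y' + g.hom x = y)
    {E : Dual.D A} (hE : DRing.IsDerivedComplete (Ideal.span (s : Set A)) E) :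
    Function.Bijective (fun ψ : Dual.inD A N ⟶ E =>
      (DerivedCategory.singleFunctor (ModuleCat.{u} A) 0).map g ≫ ψ) := by
  refine bijective_precomp_of_ker_coker s hf _ (fun i x hx hfx => ?_) (fun i x hx => ?_)
    (fun i y x hxy => ?_) (fun i y => ?_) hE
  · by_cases hi : i = 0
    · subst hi
      apply (e0 M).injective
      rw [map_zero]
      exact hk₁ _ (by rw [← e0_naturality, hx, map_zero]) (by rw [← map_smul, hfx, map_zero])
    · haveI := subsingleton_HD_inD M i hi
      exact Subsingleton.elim _ _
  · by_cases hi : i = 0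
    · subst hi
      obtain ⟨u, hu, hu'⟩ := hk₂ (e0 M x) (by rw [← e0_naturality, hx, map_zero])
      refine ⟨(e0 M).symm u, (e0 N).injective ?_, (e0 M).injective ?_⟩
      · rw [map_zero, e0_naturality, LinearEquiv.apply_symm_apply, hu]
      · rw [map_smul, LinearEquiv.apply_symm_apply, hu']
    · haveI := subsingleton_HD_inD M i hi
      exact ⟨0, map_zero _, Subsingleton.elim _ _⟩
  · by_cases hi : i = 0
    · subst hi
      obtain ⟨x', hx'⟩ := hc₁ (e0 N y) (e0 M x) (by rw [← map_smul, hxy, e0_naturality])
      exact ⟨(e0 M).symm x', (e0 N).injective (by rw [e0_naturality, LinearEquiv.apply_symm_apply, hx'])⟩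
    · haveI := subsingleton_HD_inD N i hi
      exact ⟨0, Subsingleton.elim _ _⟩
  · by_cases hi : i = 0
    · subst hi
      obtain ⟨y', x, hyx⟩ := hc₂ (e0 N y)
      refine ⟨(e0 N).symm y', (e0 M).symm x, (e0 N).injective ?_⟩
      rw [map_add, map_smul, e0_naturality, LinearEquiv.apply_symm_apply, LinearEquiv.apply_symm_apply, hyx]
    · haveI := subsingleton_HD_inD N i hi
      exact ⟨0, 0, Subsingleton.elim _ _⟩

/-- The map to the adic completion. -/
noncomputable abbrev ofD (I : Ideal A) (X : Type u) [AddCommGroup X] [Module A X] :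
    Dual.inD A X ⟶ Dual.inD A (AdicCompletion I X) :=
  (DerivedCategory.singleFunctor (ModuleCat.{u} A) 0).map (ModuleCat.ofHom (AdicCompletion.of I X))

theorem bijective_precomp_ofD {X : Type u} [AddCommGroup X] [Module A X] (hX : ARTor (A := A) X) (s : Finset A) :
    ∀ (E : Dual.D A), DRing.IsDerivedComplete (Ideal.span (s : Set A)) E →
      Function.Bijective (fun ψ : Dual.inD A (AdicCompletion (Ideal.span (s : Set A)) X) ⟶ E =>
        ofD (Ideal.span (s : Set A)) X ≫ ψ) := by
  classical
  induction s using Finset.induction_on with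
  | empty =>
    intro E _
    rw [show Ideal.span ((∅ : Finset A) : Set A) = ⊥ by simp]
    haveI : IsIso (ModuleCat.ofHom (AdicCompletion.of (⊥ : Ideal A) X)) :=
      (ConcreteCategory.isIso_iff_bijective _).2 (AdicCompletion.of_bijective (⊥ : Ideal A) X)
    exact (asIso (ofD (⊥ : Ideal A) X)).homFromEquiv.symm.bijective
  | @insert f s hf ih =>
    intro E hE
    have hspan : Ideal.span ((insert f s : Finset A) : Set A) = Ideal.span (s : Set A) ⊔ Ideal.span {f} := by
      rw [Finset.coe_insert, Ideal.span_insert, sup_comm]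
    have hE' : DRing.IsDerivedComplete (Ideal.span (s : Set A)) E := fun g hg =>
      hE g (Ideal.span_mono (Finset.coe_subset.2 (Finset.subset_insert f s)) hg)
    have hf' : f ∈ Ideal.span ((insert f s : Finset A) : Set A) :=
      Ideal.subset_span (Finset.mem_coe.2 (Finset.mem_insert_self f s))
    rw [hspan]
    have h1 := bijective_precomp_inD (insert f s) hf'
      (ModuleCat.ofHom (comp (X := X) (le_sup_left : Ideal.span (s : Set A) ≤ Ideal.span (s : Set A) ⊔ Ideal.span {f})))
      (bijective_ker hX _ f).1 (bijective_ker hX _ f).2 (injective_coker hX _ f)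
      (surjective_coker _ f ⟨s, rfl⟩) hE
    refine Eq.mp (congrArg Function.Bijective (funext fun ψ => ?_)) ((ih E hE').comp h1)
    have e : ofD (Ideal.span (s : Set A)) X ≫ (DerivedCategory.singleFunctor (ModuleCat.{u} A) 0).map
        (ModuleCat.ofHom (comp (X := X) (le_sup_left : Ideal.span (s : Set A) ≤ Ideal.span (s : Set A) ⊔ Ideal.span {f}))) =
        ofD (Ideal.span (s : Set A) ⊔ Ideal.span {f}) X := by
      rw [ofD, ← Functor.map_comp]
      exact congrArg _ (ModuleCat.hom_ext (LinearMap.ext fun x => comp_of (J' := Ideal.span (s : Set A) ⊔ Ideal.span {f}) le_sup_left x))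
    rw [← e, Category.assoc]
    rfl

/-- The adic completion is the derived completion. -/
theorem isCompletion_adic {X : Type u} [AddCommGroup X] [Module A X] (hX : ARTor (A := A) X) (I : Ideal A)
    (hI : I.FG) : IsCompletion I (ofD I X) := by
  obtain ⟨s, rfl⟩ := hI
  haveI : IsAdicComplete (Ideal.span (s : Set A)) (AdicCompletion (Ideal.span (s : Set A)) X) :=
    AdicCompletion.isAdicComplete ⟨s, rfl⟩
  exact ⟨(isDerivedComplete_inD_iff _ _).2 fun f hf => bij_of_isAdicComplete _ hf, bijective_precomp_ofD hX s⟩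

/-- Derived completion of `M ⊗ N`. -/
theorem exists_homology_adic [IsNoetherianRing A] (I : Ideal A) [DRing.HasDerivedCompletion I]
    {X : Type u} [AddCommGroup X] [Module A X] (hX : ARTor (A := A) X) :
    (∀ i : ℤ, i ≠ 0 → Subsingleton (Dual.HD A ((DRing.derivedCompletion I).obj (Dual.inD A X)).obj i)) ∧
      ∃ e : Dual.HD A ((DRing.derivedCompletion I).obj (Dual.inD A X)).obj 0 ≃ₗ[A] AdicCompletion I X,
        ∀ x : Dual.HD A (Dual.inD A X) 0,
          e (hm 0 (DRing.toDerivedCompletion I (Dual.inD A X)) x) = AdicCompletion.of I X (e0 (ModuleCat.of A X) x) := by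
  obtain ⟨E, hE⟩ := (isCompletion_unit (I := I) (Dual.inD A X)).exists_iso (isCompletion_adic hX I (IsNoetherian.noetherian I))
  refine ⟨fun i hi => ?_, (hEquiv 0 E).trans (e0 (ModuleCat.of A (AdicCompletion I X))), fun x => ?_⟩
  · haveI := subsingleton_HD_inD (ModuleCat.of A (AdicCompletion I X)) i hi
    exact (hEquiv i E).injective.subsingleton
  · refine (congrArg (e0 (ModuleCat.of A (AdicCompletion I X))) ?_).trans (e0_naturality (ModuleCat.ofHom (AdicCompletion.of I X)) x)
    show hm 0 E.hom (hm 0 (DRing.toDerivedCompletion I (Dual.inD A X)) x) = _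
    rw [← hm_comp_apply, hE]

end Groth.Agent.H4DR.DComplete
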