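import Groth.Agent.H4DR.DComplete.Adic.ARTor
import Groth.Agent.H4DR.DComplete.Series
import Mathlib.RingTheory.AdicCompletion.Completeness

/-!
# From `J`-adic to `(J + (f))`-adic completion
-/

set_option autoImplicit false
set_option linter.style.haveILetI false

universe u

open Submodule

namespace Groth.Agent.H4DR.DComplete

variable {A : Type u} [CommRing A] {X : Type u} [AddCommGroup X] [Module A X]

local notation "AC" => AdicCompletion

lemma bij_prod {g : A} {M N : Type u} [AddCommGroup M] [Module A M] [AddCommGroup N] [Module A N]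
    (hM : Bij g M) (hN : Bij g N) : Bij g (M × N) := by
  refine ⟨(injective_iff_map_eq_zero _).2 fun m hm => funext fun k => ?_, fun s => ?_⟩
  · have h : ∀ k, m k = g • m (k + 1) := fun k => sub_eq_zero.1 (congrFun hm k)
    exact Prod.ext (hM.eq_zero (m := fun k => (m k).1) (fun k => congrArg Prod.fst (h k)) k)
      (hN.eq_zero (m := fun k => (m k).2) (fun k => congrArg Prod.snd (h k)) k)
  · obtain ⟨a, ha⟩ := hM.exists_sol fun k => (s k).1
    obtain ⟨b, hb⟩ := hN.exists_sol fun k => (s k).2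
    exact ⟨fun k => (a k, b k), T_eq_iff.2 fun k => Prod.ext (ha k) (hb k)⟩

/-- Comparison of completions. -/
noncomputable def comp {J J' : Ideal A} (h : J ≤ J') : AC J X →ₗ[A] AC J' X where
  toFun x := ⟨fun n => Submodule.factor (Submodule.smul_mono (Ideal.pow_right_mono h n) le_rfl) (x.val n),
    fun {m n} hmn => by
      obtain ⟨a, rfl⟩ := AdicCompletion.mk_surjective J X x
      exact (Submodule.Quotient.eq _).2 (Submodule.smul_mono (Ideal.pow_right_mono h m) le_rfl
        ((Submodule.Quotient.eq _).1 (a.property hmn).symm))⟩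
  map_add' x y := AdicCompletion.ext fun n => map_add _ _ _
  map_smul' r x := AdicCompletion.ext fun n => map_smul _ r _

lemma comp_mk {J J' : Ideal A} (h : J ≤ J') (a : AdicCompletion.AdicCauchySequence J X) (n : ℕ) :
    (comp h (AdicCompletion.mk J X a)).val n = Submodule.mkQ (J' ^ n • ⊤ : Submodule A X) (a n) := rfl

lemma comp_of {J J' : Ideal A} (h : J ≤ J') (x : X) :
    comp h (AdicCompletion.of J X x) = AdicCompletion.of J' X x := AdicCompletion.ext fun _ => rfl

lemma mk_eq_iff {J : Ideal A} {a b : AdicCompletion.AdicCauchySequence J X} :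
    AdicCompletion.mk J X a = AdicCompletion.mk J X b ↔ ∀ n, a n - b n ∈ (J ^ n • ⊤ : Submodule A X) :=
  ⟨fun h n => (Submodule.Quotient.eq _).1 (congrArg (fun z : AC J X => z.val n) h),
    fun h => AdicCompletion.ext fun n => (Submodule.Quotient.eq _).2 (h n)⟩

lemma seq_sub_mem {J : Ideal A} (a : AdicCompletion.AdicCauchySequence J X) {m n : ℕ} (h : m ≤ n) :
    a n - a m ∈ (J ^ m • ⊤ : Submodule A X) :=
  (Submodule.Quotient.eq _).1 (a.property h).symm

/-- A Cauchy sequence from its increments. -/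
noncomputable def seqOf {J : Ideal A} (b : ℕ → X) (h : ∀ n, b (n + 1) - b n ∈ (J ^ n • ⊤ : Submodule A X)) :
    AdicCompletion.AdicCauchySequence J X :=
  AdicCompletion.AdicCauchySequence.mk J X b fun n => ((Submodule.Quotient.eq _).2 (h n)).symm

lemma pow_mem_split {J : Ideal A} (f : A) (a b : ℕ) {x : X} (hx : x ∈ ((J ⊔ Ideal.span {f}) ^ (a + b) • ⊤ : Submodule A X)) :
    ∃ w : X, x - f ^ b • w ∈ (J ^ a • ⊤ : Submodule A X) := by
  have h : (J ⊔ Ideal.span {f}) ^ (a + b) • (⊤ : Submodule A X) ≤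
      (J ^ a • ⊤ : Submodule A X) ⊔ Ideal.span {f ^ b} • ⊤ := by
    rw [← Submodule.sup_smul, ← Ideal.span_singleton_pow]
    exact Submodule.smul_mono (Ideal.sup_pow_add_le_pow_sup_pow) le_rfl
  obtain ⟨j, hj, p, hp, rfl⟩ := Submodule.mem_sup.1 (h hx)
  rw [Submodule.ideal_span_singleton_smul, Submodule.mem_smul_pointwise_iff_exists] at hp
  obtain ⟨w, -, rfl⟩ := hp
  exact ⟨w, by rwa [add_sub_cancel_right]⟩

lemma pow_smul_mem {J : Ideal A} {f : A} {n b : ℕ} (h : n ≤ b) (w : X) :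
    f ^ b • w ∈ ((J ⊔ Ideal.span {f}) ^ n • ⊤ : Submodule A X) :=
  Submodule.smul_mem_smul (Ideal.pow_le_pow_right h
    (Ideal.pow_mem_pow (le_sup_right (a := J) (Ideal.mem_span_singleton_self f)) b)) Submodule.mem_top

lemma mem_pow_sup {J : Ideal A} (f : A) {n : ℕ} {x : X} (h : x ∈ (J ^ n • ⊤ : Submodule A X)) :
    x ∈ ((J ⊔ Ideal.span {f}) ^ n • ⊤ : Submodule A X) :=
  Submodule.smul_mono (Ideal.pow_right_mono le_sup_left n) le_rfl h

variable (hX : ARTor (A := A) X)
include hX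

/-- `f^n X_J` is closed. -/
theorem exists_smul_eq_of_mem {J : Ideal A} (f : A) (n : ℕ) (a : AdicCompletion.AdicCauchySequence J X)
    (h : ∀ m, ∃ w : X, a m - f ^ n • w ∈ (J ^ m • ⊤ : Submodule A X)) :
    ∃ y : AC J X, f ^ n • y = AdicCompletion.mk J X a := by
  obtain ⟨k, hk⟩ := hX.lift J f n
  choose w hw using fun m => h (m + k)
  choose t ht ht' using fun m => hk m (w (m + 1) - w m) (by
    have e : f ^ n • (w (m + 1) - w m) =
        (a (m + 1 + k) - a (m + k)) - (a (m + 1 + k) - f ^ n • w (m + 1)) + (a (m + k) - f ^ n • w m) := by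
      rw [smul_sub]; abel
    rw [e]
    exact add_mem (sub_mem (seq_sub_mem a (by omega))
      (Submodule.pow_smul_top_le J X (by omega : m + k ≤ m + 1 + k) (hw (m + 1)))) (hw m))
  refine ⟨AdicCompletion.mk J X (seqOf (fun m => w m - ∑ i ∈ Finset.range m, t i) fun m => ?_), ?_⟩
  · rw [Finset.sum_range_succ]
    have e : w (m + 1) - (∑ i ∈ Finset.range m, t i + t m) - (w m - ∑ i ∈ Finset.range m, t i) =
        w (m + 1) - w m - t m := by abel
    rw [e]
    exact ht' m
  · rw [← map_smul, mk_eq_iff]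
    intro m
    show f ^ n • (w m - ∑ i ∈ Finset.range m, t i) - a m ∈ _
    rw [smul_sub, Finset.smul_sum, Finset.sum_eq_zero (fun i _ => ht i), sub_zero,
      show f ^ n • w m - a m = (a (m + k) - a m) - (a (m + k) - f ^ n • w m) by abel]
    exact sub_mem (seq_sub_mem a (by omega)) (Submodule.pow_smul_top_le J X (by omega : m ≤ m + k) (hw m))

/-- Torsion of `X_J` is bounded. -/
theorem bounded_completion (J : Ideal A) (f : A) : ∃ c : ℕ, ∀ (n : ℕ) (y : AC J X), f ^ n • y = 0 → f ^ c • y = 0 := by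
  obtain ⟨c, hc⟩ := hX.bounded f
  refine ⟨c, fun n y hy => ?_⟩
  obtain ⟨a, rfl⟩ := AdicCompletion.mk_surjective J X y
  obtain ⟨k, hk⟩ := hX.lift J f n
  refine AdicCompletion.ext fun m => ?_
  have h1 : f ^ n • a (m + k) ∈ (J ^ (m + k) • ⊤ : Submodule A X) :=
    (Submodule.Quotient.mk_eq_zero _).1 (congrArg (fun z : AC J X => z.val (m + k)) hy)
  obtain ⟨t, ht, ht'⟩ := hk m _ h1
  refine (Submodule.Quotient.mk_eq_zero _).2 ?_
  show f ^ c • a m ∈ _
  rw [show f ^ c • a m = f ^ c • (a (m + k) - t) + f ^ c • t - f ^ c • (a (m + k) - a m) by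
    simp only [smul_sub]; abel, hc n t ht, add_zero]
  exact sub_mem (Submodule.smul_mem _ _ ht') (Submodule.smul_mem _ _ (seq_sub_mem a (by omega)))

variable (J : Ideal A) (f : A)

omit hX in
lemma comp_eq_zero_of_divisible (z : AC J X) (h : ∀ b, ∃ w, f ^ b • w = z) :
    comp (le_sup_left : J ≤ J ⊔ Ideal.span {f}) z = 0 := by
  refine AdicCompletion.ext fun n => ?_
  obtain ⟨w, rfl⟩ := h n
  obtain ⟨a, rfl⟩ := AdicCompletion.mk_surjective J X w
  rw [← map_smul, comp_mk]
  exact (Submodule.Quotient.mk_eq_zero _).2 (pow_smul_mem le_rfl _)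

theorem divisible_of_comp_eq_zero (z : AC J X) (h : comp (le_sup_left : J ≤ J ⊔ Ideal.span {f}) z = 0) (b : ℕ) :
    ∃ w, f ^ b • w = z := by
  obtain ⟨a, rfl⟩ := AdicCompletion.mk_surjective J X z
  refine exists_smul_eq_of_mem hX f b a fun m => ?_
  have h1 : a (m + b) ∈ ((J ⊔ Ideal.span {f}) ^ (m + b) • ⊤ : Submodule A X) :=
    (Submodule.Quotient.mk_eq_zero _).1 (congrArg (fun z : AC (J ⊔ Ideal.span {f}) X => z.val (m + b)) h)
  obtain ⟨w, hw⟩ := pow_mem_split f m b h1
  refine ⟨w, ?_⟩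
  rw [show a m - f ^ b • w = (a (m + b) - f ^ b • w) - (a (m + b) - a m) by abel]
  exact sub_mem hw (seq_sub_mem a (by omega))

/-- `f` is bijective on the kernel. -/
theorem bijective_ker :
    (∀ z : AC J X, comp (le_sup_left : J ≤ J ⊔ Ideal.span {f}) z = 0 → f • z = 0 → z = 0) ∧
      ∀ z : AC J X, comp (le_sup_left : J ≤ J ⊔ Ideal.span {f}) z = 0 →
        ∃ u : AC J X, comp (le_sup_left : J ≤ J ⊔ Ideal.span {f}) u = 0 ∧ f • u = z := by
  obtain ⟨c, hc⟩ := bounded_completion hX J f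
  refine ⟨fun z hz hfz => ?_, fun z hz => ?_⟩
  · obtain ⟨w, rfl⟩ := divisible_of_comp_eq_zero hX J f z hz c
    exact hc (c + 1) w (by rw [pow_succ', mul_smul]; exact hfz)
  · choose w hw using fun b => divisible_of_comp_eq_zero hX J f z hz (c + 1 + b)
    refine ⟨f ^ c • w 0, comp_eq_zero_of_divisible J f _ fun n => ⟨f ^ c • w n, ?_⟩, ?_⟩
    · have h0 : f ^ (c + 1) • (w 0 - f ^ n • w n) = 0 := by
        rw [smul_sub, sub_eq_zero, ← mul_smul, ← pow_add]
        exact (hw 0).trans (hw n).symm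
      have := hc (c + 1) _ h0
      rw [smul_sub, sub_eq_zero] at this
      rw [this, ← mul_smul, ← mul_smul, mul_comm]
    · rw [← mul_smul, ← pow_succ']
      exact hw 0

/-- `f` is injective on the cokernel. -/
theorem injective_coker (y : AC (J ⊔ Ideal.span {f}) X) (x : AC J X)
    (h : f • y = comp le_sup_left x) :
    ∃ x' : AC J X, comp le_sup_left x' = y := by
  obtain ⟨d, rfl⟩ := AdicCompletion.mk_surjective _ X y
  obtain ⟨a, rfl⟩ := AdicCompletion.mk_surjective J X x
  have hda : ∀ m, f • d m - a m ∈ ((J ⊔ Ideal.span {f}) ^ m • ⊤ : Submodule A X) := fun m =>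
    (Submodule.Quotient.eq _).1 (congrArg (fun z : AC (J ⊔ Ideal.span {f}) X => z.val m) h)
  -- `x` is a multiple of `f`
  obtain ⟨v, hv⟩ := exists_smul_eq_of_mem hX f 1 a fun m => by
    obtain ⟨w, hw⟩ := pow_mem_split f m 1 (hda (m + 1))
    refine ⟨d (m + 1) - w, ?_⟩
    rw [pow_one] at hw ⊢
    rw [show a m - f • (d (m + 1) - w) = -(f • d (m + 1) - a (m + 1) - f • w) - (a (m + 1) - a m) by
      rw [smul_sub]; abel]
    exact sub_mem (neg_mem hw) (seq_sub_mem a (by omega))
  rw [pow_one] at hv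
  obtain ⟨e, he⟩ := AdicCompletion.mk_surjective _ X (AdicCompletion.mk _ X d - comp le_sup_left v)
  have hfe : ∀ m, f • e m ∈ ((J ⊔ Ideal.span {f}) ^ m • ⊤ : Submodule A X) := fun m => by
    have : f • AdicCompletion.mk _ X e = 0 := by rw [he, smul_sub, h, ← map_smul (comp _), hv, sub_self]
    exact (Submodule.Quotient.mk_eq_zero _).1 (congrArg (fun z : AC (J ⊔ Ideal.span {f}) X => z.val m) this)
  -- approximation by torsion
  have happ : ∀ m, ∃ t : X, f • t = 0 ∧ e m - t ∈ ((J ⊔ Ideal.span {f}) ^ m • ⊤ : Submodule A X) := fun m => by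
    obtain ⟨k, hk⟩ := hX.lift J f 1
    obtain ⟨w, hw⟩ := pow_mem_split f (m + k) (m + 1) (hfe (m + k + (m + 1)))
    obtain ⟨t, ht, ht'⟩ := hk m (e (m + k + (m + 1)) - f ^ m • w) (by
      rwa [pow_one, smul_sub, ← mul_smul, ← pow_succ'])
    rw [pow_one] at ht
    refine ⟨t, ht, ?_⟩
    rw [show e m - t = (e (m + k + (m + 1)) - f ^ m • w - t) + f ^ m • w - (e (m + k + (m + 1)) - e m) by abel]
    exact sub_mem (add_mem (mem_pow_sup f ht') (pow_smul_mem le_rfl w)) (seq_sub_mem e (by omega))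
  choose t ht ht' using happ
  obtain ⟨c, hc⟩ := hX.bounded f
  obtain ⟨k, hk⟩ := hX.lift J f (c + 1)
  have hclose : ∀ (a : ℕ) (s : X), f • s = 0 → s ∈ ((J ⊔ Ideal.span {f}) ^ (a + k + c) • ⊤ : Submodule A X) →
      s ∈ (J ^ a • ⊤ : Submodule A X) := fun a s hs hs' => by
    obtain ⟨w, hw⟩ := pow_mem_split f (a + k) c hs'
    obtain ⟨t', ht0, ht1⟩ := hk a w (by
      rw [show f ^ (c + 1) • w = -(f • (s - f ^ c • w)) by
        rw [smul_sub, hs, zero_sub, neg_neg, ← mul_smul, ← pow_succ']]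
      exact neg_mem (Submodule.smul_mem _ _ hw))
    rw [show s = (s - f ^ c • w) + f ^ c • (w - t') + f ^ c • t' by rw [smul_sub]; abel, hc _ _ ht0, add_zero]
    exact add_mem (Submodule.pow_smul_top_le J X (by omega : a ≤ a + k) hw) (Submodule.smul_mem _ _ ht1)
  let s : AdicCompletion.AdicCauchySequence J X := seqOf (fun a => t (a + k + c)) fun a => by
    refine hclose a _ (by rw [smul_sub, ht, ht, sub_zero]) ?_
    rw [show t (a + 1 + k + c) - t (a + k + c) = (e (a + 1 + k + c) - e (a + k + c)) -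
      (e (a + 1 + k + c) - t (a + 1 + k + c)) + (e (a + k + c) - t (a + k + c)) by abel]
    exact add_mem (sub_mem (seq_sub_mem e (by omega))
      (Submodule.pow_smul_top_le _ X (by omega : a + k + c ≤ a + 1 + k + c) (ht' _))) (ht' _)
  refine ⟨AdicCompletion.mk J X s + v, ?_⟩
  rw [map_add, ← eq_sub_iff_add_eq, ← he]
  refine AdicCompletion.ext fun a => ?_
  refine (Submodule.Quotient.eq _).2 ?_
  show t (a + k + c) - e a ∈ _
  rw [show t (a + k + c) - e a = (e (a + k + c) - e a) - (e (a + k + c) - t (a + k + c)) by abel]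
  exact sub_mem (seq_sub_mem e (by omega)) (Submodule.pow_smul_top_le _ X (by omega : a ≤ a + k + c) (ht' _))

omit hX in
/-- `f` is surjective on the cokernel. -/
theorem surjective_coker (hJ : J.FG) (y : AC (J ⊔ Ideal.span {f}) X) :
    ∃ (y' : AC (J ⊔ Ideal.span {f}) X) (x : AC J X), f • y' + comp le_sup_left x = y := by
  obtain ⟨s, hs⟩ := hJ
  have hfg : ∀ g ∈ J, Bij g (AC J X) := fun g hg =>
    haveI := AdicCompletion.isAdicComplete (M := X) ⟨s, hs⟩
    bij_of_isAdicComplete J hg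
  have hJ' : (J ⊔ Ideal.span {f}).FG := Submodule.FG.sup ⟨s, hs⟩ ⟨{f}, by simp⟩
  haveI := AdicCompletion.isAdicComplete (M := X) hJ'
  let u : AC (J ⊔ Ideal.span {f}) X × AC J X →ₗ[A] AC (J ⊔ Ideal.span {f}) X :=
    (LinearMap.lsmul A _ f).coprod (comp le_sup_left)
  suffices hT : Subsingleton (AC (J ⊔ Ideal.span {f}) X ⧸ LinearMap.range u) by
    obtain ⟨⟨y', x⟩, hyx⟩ := (Submodule.Quotient.mk_eq_zero _).1
      (Subsingleton.elim (Submodule.Quotient.mk (p := LinearMap.range u) y) 0)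
    exact ⟨y', x, hyx⟩
  refine subsingleton_of_smul_top s (fun g hg => ?_) ?_
  · have hgJ : g ∈ J := hs ▸ Ideal.subset_span (Finset.mem_coe.2 hg)
    have h2 : Bij g (AC (J ⊔ Ideal.span {f}) X) :=
      bij_of_isAdicComplete (J ⊔ Ideal.span {f}) (le_sup_left (a := J) hgJ)
    exact Bij.coker u (bij_prod h2 (hfg g hgJ)) h2
  · rw [show Ideal.span (s : Set A) = J from hs, eq_top_iff]
    rintro q -
    obtain ⟨y, rfl⟩ := Submodule.mkQ_surjective (LinearMap.range u) q
    obtain ⟨d, rfl⟩ := AdicCompletion.mk_surjective _ X y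
    have h1 : AdicCompletion.mk _ X d - AdicCompletion.of _ X (d 1) ∈
        ((J ⊔ Ideal.span {f}) ^ 1 • ⊤ : Submodule A (AC (J ⊔ Ideal.span {f}) X)) := by
      rw [AdicCompletion.pow_smul_top_eq_ker_eval hJ', LinearMap.mem_ker, map_sub, sub_eq_zero]
      rfl
    rw [pow_one, Submodule.sup_smul] at h1
    obtain ⟨j, hj, p, hp, hjp⟩ := Submodule.mem_sup.1 h1
    rw [Submodule.ideal_span_singleton_smul, Submodule.mem_smul_pointwise_iff_exists] at hp
    obtain ⟨w, -, rfl⟩ := hp
    have hmem : AdicCompletion.mk _ X d - j ∈ LinearMap.range u := by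
      refine ⟨(w, AdicCompletion.of J X (d 1)), ?_⟩
      show f • w + comp le_sup_left (AdicCompletion.of J X (d 1)) = _
      rw [comp_of, eq_sub_iff_add_eq, add_right_comm, add_comm (f • w), hjp, sub_add_cancel]
    have e : (LinearMap.range u).mkQ (AdicCompletion.mk _ X d) = (LinearMap.range u).mkQ j :=
      (Submodule.Quotient.eq _).2 hmem
    rw [e]
    have := Submodule.mem_map_of_mem (f := (LinearMap.range u).mkQ) hj
    rw [Submodule.map_smul'', Submodule.map_top, Submodule.range_mkQ] at this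
    exact this

end Groth.Agent.H4DR.DComplete
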